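import Groth.Agent.NormalExtLib.Basic
import Groth.Agent.HenselLib.SectionsIdem
import Groth.Agent.CurveRR24.RatPoint
import Groth.Agent.FEtFF.Generic

/-! Normality descends along `f_* O = O`. -/

set_option autoImplicit false
set_option backward.isDefEq.respectTransparency.types false

universe u

open CategoryTheory AlgebraicGeometry TopologicalSpace Opposite

namespace Groth.Agent.NormalPush24

/-- A scheme whose functions are a domain is connected. -/
theorem connectedSpace_of_isDomain {X : Scheme.{u}} [IsDomain Γ(X, ⊤)] [Nonempty X] : ConnectedSpace X := by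
  haveI : PreconnectedSpace X := by
    refine preconnectedSpace_iff_clopen.2 fun U hU => ?_
    obtain ⟨e, he, heU⟩ := HenselLib.SectionsIdem.exists_idempotent hU
    rcases IsIdempotentElem.iff_eq_zero_or_one.1 he with rfl | rfl
    · left; rw [← heU, Scheme.basicOpen_zero]; rfl
    · right; rw [← heU, X.basicOpen_of_isUnit isUnit_one]; rfl
  exact ⟨inferInstance⟩

/-- Global functions on an integral normal scheme form an integrally closed domain. -/
theorem isIntegrallyClosed_top {W : Scheme.{u}} [IsIntegral W] (hW : Pi1.IsNormalScheme W) :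
    IsIntegrallyClosed Γ(W, ⊤) := by
  let K := W.functionField
  let g : Γ(W, ⊤) →+* K := (W.presheaf.germ ⊤ (genericPoint W) (TopologicalSpace.Opens.mem_top _)).hom
  have hg : Function.Injective g := germ_injective_of_isIntegral W _ (TopologicalSpace.Opens.mem_top _)
  refine (isIntegrallyClosed_iff (FractionRing Γ(W, ⊤))).2 fun {x} hx => ?_
  let ι : FractionRing Γ(W, ⊤) →+* K := IsFractionRing.lift (A := Γ(W, ⊤)) hg
  obtain ⟨p, hp, hpx⟩ := hx
  have hcomp : ι.comp (algebraMap _ _) = g := RingHom.ext fun a => IsFractionRing.lift_algebraMap hg a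
  have hroot : p.eval₂ g (ι x) = 0 := by rw [← hcomp, ← Polynomial.hom_eval₂, hpx, map_zero]
  let J := {U : W.affineOpens // Nonempty U.1}
  have hgen : ∀ U : J, genericPoint W ∈ U.1.1 := fun U => by
    obtain ⟨⟨z, hz⟩⟩ := U.2
    exact (genericPoint_specializes z).mem_open U.1.1.isOpen hz
  have hloc : ∀ U : J, ∃ s : Γ(W, U.1.1), W.presheaf.germ U.1.1 (genericPoint W) (hgen U) s = ι x := fun U => by
    haveI := U.2
    haveI := NormalExtLib.isIntegrallyClosed_sections hW U.1.1 U.1.2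
    haveI := functionField_isFractionRing_of_isAffineOpen W U.1.1 U.1.2
    have hr : ((algebraMap Γ(W, U.1.1) K)).comp (W.presheaf.map (homOfLE le_top).op).hom = g := by
      refine RingHom.ext fun a => ?_
      exact W.presheaf.germ_res_apply (homOfLE le_top) _ (hgen U) a
    have hint : IsIntegral Γ(W, U.1.1) (ι x) := by
      refine ⟨p.map (W.presheaf.map (homOfLE le_top).op).hom, hp.map _, ?_⟩
      rw [Polynomial.eval₂_map, hr]
      exact hroot
    obtain ⟨s, hs⟩ := IsIntegrallyClosed.isIntegral_iff.1 hint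
    exact ⟨s, hs⟩
  choose s hs using hloc
  have hcompat : TopCat.Presheaf.IsCompatible W.sheaf.1 (fun U : J => U.1.1) s := by
    intro U V
    have hη : genericPoint W ∈ U.1.1 ⊓ V.1.1 := ⟨hgen U, hgen V⟩
    refine germ_injective_of_isIntegral W _ hη ?_
    erw [W.presheaf.germ_res_apply, W.presheaf.germ_res_apply]
    rw [hs, hs]
  have hcover : (⊤ : W.Opens) ≤ ⨆ U : J, U.1.1 := fun z _ => by
    obtain ⟨U, hU, hz, -⟩ := exists_isAffineOpen_mem_and_subset (x := z) (U := ⊤) trivial
    exact TopologicalSpace.Opens.mem_iSup.2 ⟨⟨⟨U, hU⟩, ⟨⟨z, hz⟩⟩⟩, hz⟩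
  obtain ⟨a, ha, -⟩ := W.sheaf.existsUnique_gluing' (fun U : J => U.1.1) ⊤ (fun U => homOfLE le_top) hcover s hcompat
  refine ⟨a, ι.injective ?_⟩
  rw [← RingHom.comp_apply, hcomp]
  obtain ⟨z⟩ := (inferInstance : Nonempty W)
  obtain ⟨U, hU, hz, -⟩ := exists_isAffineOpen_mem_and_subset (x := z) (U := ⊤) trivial
  let U' : J := ⟨⟨U, hU⟩, ⟨⟨z, hz⟩⟩⟩
  rw [← hs U', ← ha U']
  exact (W.presheaf.germ_res_apply (homOfLE le_top) _ (hgen U') a).symm

/-- Normality descends along a morphism with `f_* O = O`. -/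
theorem isNormalScheme_of_isIso_app {k : Type u} [Field k] {X Y : Scheme.{u}} (q : X ⟶ Spec (CommRingCat.of k))
    [IsIntegral X] [LocallyOfFiniteType q] [IsSeparated q] (f : Y ⟶ X) [LocallyOfFiniteType f] [QuasiCompact f]
    (hfib : ∀ V : X.Opens, IsIso (f.app V)) (hY : Pi1.IsNormalScheme Y) : Pi1.IsNormalScheme X := by
  intro x
  refine ⟨inferInstance, ?_⟩
  obtain ⟨V, hV, hxV, -⟩ := exists_isAffineOpen_mem_and_subset (x := x) (U := ⊤) trivial
  haveI : Nonempty V := ⟨⟨x, hxV⟩⟩
  let W : Scheme.{u} := (f ⁻¹ᵁ V).toScheme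
  let e : Γ(X, V) ≃+* Γ(W, ⊤) :=
    ((asIso (f.app V)) ≪≫ (f ⁻¹ᵁ V).topIso.symm).commRingCatIsoToRingEquiv
  haveI : IsDomain Γ(W, ⊤) := e.symm.toMulEquiv.isDomain _
  haveI : Nonempty W := by
    by_contra hne
    haveI : IsEmpty W := not_nonempty_iff.1 hne
    haveI : Subsingleton Γ(W, ⊤) := CommRingCat.subsingleton_of_isTerminal (W.sheaf.isTerminalOfEqEmpty (Subsingleton.elim _ _))
    exact one_ne_zero (α := Γ(W, ⊤)) (Subsingleton.elim _ _)
  haveI := connectedSpace_of_isDomain (X := W)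
  haveI : IsAffine V.toScheme := hV
  let g : W ⟶ Spec (CommRingCat.of k) := (f ∣_ V) ≫ V.ι ≫ q
  haveI : QuasiCompact (V.ι ≫ q) := inferInstance
  haveI : QuasiCompact g := inferInstanceAs (QuasiCompact ((f ∣_ V) ≫ V.ι ≫ q))
  haveI : LocallyOfFiniteType g := inferInstanceAs (LocallyOfFiniteType ((f ∣_ V) ≫ V.ι ≫ q))
  have hWn := FEtFF.isNormalScheme_open hY (f ⁻¹ᵁ V)
  haveI := CurveRR24.isIntegral_of_normal_connected g hWn
  haveI := isIntegrallyClosed_top hWn
  haveI : IsIntegrallyClosed Γ(X, V) := IsIntegrallyClosed.of_equiv e.symm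
  letI := TopCat.Presheaf.algebra_section_stalk X.presheaf (⟨x, hxV⟩ : V)
  haveI := hV.isLocalization_stalk ⟨x, hxV⟩
  exact isIntegrallyClosed_of_isLocalization (R := Γ(X, V)) (S := X.presheaf.stalk x)
    (hV.primeIdealOf ⟨x, hxV⟩).asIdeal.primeCompl (Ideal.primeCompl_le_nonZeroDivisors _)

end Groth.Agent.NormalPush24
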